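import Groth.Agent.Lib.HeightOne.Field
import Mathlib.RingTheory.LocalRing.ResidueField.Basic
import Mathlib.RingTheory.LocalRing.Module
import Mathlib.RingTheory.Finiteness.Nakayama
import Mathlib.LinearAlgebra.Dimension.Constructions
import Mathlib.RingTheory.OrzechProperty
import Mathlib.RingTheory.FinitePresentation
import Mathlib.RingTheory.IntegralClosure.IsIntegralClosure.Basic
import Mathlib.RingTheory.Finiteness.Quotient
import Mathlib.LinearAlgebra.TensorProduct.Quotient
import Mathlib.RingTheory.Adjoin.FG
import Mathlib.RingTheory.Finiteness.ModuleFinitePresentation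

/-!
# Height one Hopf algebras over a local ring
-/

noncomputable section

open TensorProduct MvPolynomial IsLocalRing

namespace Groth.Agent.HeightOne

universe u

set_option maxHeartbeats 1000000 in
theorem exists_algEquiv (p : ℕ) [Fact p.Prime] (R : Type u) [CommRing R] [IsLocalRing R]
    [CharP R p] (A : Type u) [CommRing A] [HopfAlgebra R A] [Algebra.FinitePresentation R A]
    [Module.Flat R A] (h1 : ∀ a : A, Bialgebra.counitAlgHom R A a = 0 → a ^ p = 0) :
    ∃ n : ℕ, Nonempty (A ≃ₐ[R] (MvPolynomial (Fin n) R ⧸
      Ideal.span (Set.range fun i : Fin n => (MvPolynomial.X i : MvPolynomial (Fin n) R) ^ p))) := by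
  classical
  have hp : p.Prime := Fact.out
  set εR := Bialgebra.counitAlgHom R A
  have hsplit : ∀ a : A, a - algebraMap R A (εR a) ∈ RingHom.ker εR := fun a => by simp [εR]
  -- A is integral hence finite
  haveI : Algebra.IsIntegral R A := ⟨fun a => by
    have h : IsIntegral R (a - algebraMap R A (εR a)) :=
      ⟨Polynomial.X ^ p, Polynomial.monic_X_pow p, by
        simp [Polynomial.eval₂_pow, h1 _ (hsplit a)]⟩
    simpa using h.add (isIntegral_algebraMap (x := εR a))⟩
  haveI : Module.Finite R A := Algebra.IsIntegral.finite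
  haveI : Module.FinitePresentation R A :=
    Module.FinitePresentation.of_finite_of_finitePresentation R A
  haveI : Module.Free R A := Module.free_of_flat_of_isLocalRing
  let K := ResidueField R
  let Ak := K ⊗[R] A
  have hres : Function.Surjective (algebraMap R K) := residue_surjective
  haveI : CharP K p := by
    refine (CharP.charP_iff_prime_eq_zero hp).2 ?_
    have : ((p : ℕ) : R) = 0 := CharP.cast_eq_zero R p
    rw [← map_natCast (algebraMap R K) p, this, map_zero]
  -- the projection
  let π : A →ₐ[R] Ak := Algebra.TensorProduct.includeRight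
  have hπs : Function.Surjective π := by
    intro t
    induction t using TensorProduct.induction_on with
    | zero => exact ⟨0, map_zero π⟩
    | tmul c a =>
      obtain ⟨r, rfl⟩ := hres c
      refine ⟨r • a, ?_⟩
      show (1 : K) ⊗ₜ[R] (r • a) = _
      rw [← TensorProduct.smul_tmul, Algebra.algebraMap_eq_smul_one]
    | add x y hx hy =>
      obtain ⟨a, rfl⟩ := hx
      obtain ⟨b, rfl⟩ := hy
      exact ⟨a + b, map_add π a b⟩
  have hεπ : ∀ a, Bialgebra.counitAlgHom K Ak (π a) = algebraMap R K (εR a) := fun a => by
    rw [Bialgebra.counitAlgHom_apply]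
    simp [π, Ak, εR, Algebra.algebraMap_eq_smul_one]
  have h1k : ∀ t : Ak, Bialgebra.counitAlgHom K Ak t = 0 → t ^ p = 0 := by
    intro t ht
    obtain ⟨a, rfl⟩ := hπs t
    rw [hεπ] at ht
    have h0 : π a = π (a - algebraMap R A (εR a)) := by
      rw [map_sub, AlgHom.commutes, IsScalarTower.algebraMap_apply R K Ak, ht, map_zero, sub_zero]
    rw [h0, ← map_pow, h1 _ (hsplit a), map_zero]
  obtain ⟨n, x, hx, hgen, hcard⟩ := exists_generators h1k
  choose a ha using fun i => hπs (x i)
  let X' : Fin n → A := fun i => a i - algebraMap R A (εR (a i))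
  have hX' : ∀ i, π (X' i) = x i := fun i => by
    have h := hx i
    rw [← ha, hεπ] at h
    rw [map_sub, AlgHom.commutes, IsScalarTower.algebraMap_apply R K Ak, h, map_zero, sub_zero, ha]
  have hXp : ∀ i, X' i ^ p = 0 := fun i => h1 _ (hsplit _)
  -- surjectivity
  let S := Algebra.adjoin R (Set.range X')
  have hS : S = ⊤ := by
    have hrest : Subalgebra.toSubmodule (Algebra.adjoin K (Set.range x)) ≤
        Submodule.span K (π '' S) := by
      rw [Algebra.adjoin_eq_span]
      refine Submodule.span_mono ?_
      intro y hy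
      induction hy using Submonoid.closure_induction with
      | mem y hy =>
        obtain ⟨i, rfl⟩ := hy
        exact ⟨X' i, Algebra.subset_adjoin ⟨i, rfl⟩, hX' i⟩
      | one => exact ⟨1, S.one_mem, map_one π⟩
      | mul y z _ _ hy hz =>
        obtain ⟨a, ha, rfl⟩ := hy
        obtain ⟨b, hb, rfl⟩ := hz
        exact ⟨a * b, S.mul_mem ha hb, map_mul π a b⟩
    have hall : ∀ t : Ak, ∃ s ∈ S, π s = t := by
      intro t
      have ht : t ∈ Submodule.span K (π '' S) := hrest (by rw [hgen]; trivial)
      induction ht using Submodule.span_induction with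
      | mem y hy => exact hy
      | zero => exact ⟨0, S.zero_mem, map_zero π⟩
      | add y z _ _ hy hz =>
        obtain ⟨a, ha, rfl⟩ := hy
        obtain ⟨b, hb, rfl⟩ := hz
        exact ⟨a + b, S.add_mem ha hb, map_add π a b⟩
      | smul c y _ hy =>
        obtain ⟨a, ha, rfl⟩ := hy
        obtain ⟨r, rfl⟩ := hres c
        exact ⟨r • a, S.smul_mem ha r, by rw [map_smul, algebraMap_smul]⟩
    have htop : (⊤ : Submodule R A) ≤ Subalgebra.toSubmodule S := by
      refine Submodule.le_of_le_smul_of_le_jacobson_bot (Module.Finite.fg_top)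
        (IsLocalRing.maximalIdeal_le_jacobson _) ?_
      intro a _
      obtain ⟨s, hs, hsa⟩ := hall (π a)
      refine Submodule.mem_sup.2 ⟨s, hs, a - s, ?_, by abel⟩
      have hker : a - s ∈ LinearMap.ker (π.toLinearMap) := by
        simp [LinearMap.mem_ker, hsa]
      have : Function.Exact ((maximalIdeal R • ⊤ : Submodule R A).subtype) π.toLinearMap := by
        intro y
        constructor
        · intro hy
          have hy' : (Ideal.Quotient.mk (maximalIdeal R) 1) ⊗ₜ[R] y = 0 := hy
          have := congrArg (TensorProduct.quotTensorEquivQuotSMul A (maximalIdeal R)) hy'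
          rw [TensorProduct.quotTensorEquivQuotSMul_mk_tmul, one_smul, map_zero,
            Submodule.Quotient.mk_eq_zero] at this
          exact ⟨⟨y, this⟩, rfl⟩
        · rintro ⟨⟨y, hy⟩, rfl⟩
          show π y = 0
          refine Submodule.smul_induction_on hy (fun r hr z _ => ?_) (fun u v hu hv => ?_)
          · rw [map_smul, ← algebraMap_smul K r (π z), show algebraMap R K r = 0 from
              (residue_eq_zero_iff r).2 hr, zero_smul]
          · rw [map_add, hu, hv, add_zero]
      obtain ⟨⟨y, hy⟩, hye⟩ := (this (a - s)).1 hker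
      exact hye ▸ hy
    exact eq_top_iff.2 fun a _ => htop trivial
  let J : Ideal (MvPolynomial (Fin n) R) :=
    Ideal.span (Set.range fun i : Fin n => (MvPolynomial.X i : MvPolynomial (Fin n) R) ^ p)
  let φ : (MvPolynomial (Fin n) R ⧸ J) →ₐ[R] A := Ideal.Quotient.liftₐ J (aeval X') (by
    intro y hy
    have hJ : J ≤ RingHom.ker (aeval (R := R) X') := Ideal.span_le.2 (by
      rintro _ ⟨i, rfl⟩
      simp [RingHom.mem_ker, hXp])
    exact hJ hy)
  let y : Fin n → MvPolynomial (Fin n) R ⧸ J := fun i => Ideal.Quotient.mk J (MvPolynomial.X i)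
  have hyp : ∀ i, y i ^ p = 0 := fun i => by
    show Ideal.Quotient.mk J (MvPolynomial.X i) ^ p = 0
    rw [← map_pow, Ideal.Quotient.eq_zero_iff_mem]
    exact Ideal.subset_span ⟨i, rfl⟩
  have hyall : Algebra.adjoin R (Set.range y) = ⊤ := by
    rw [eq_top_iff]
    intro q _
    obtain ⟨P, rfl⟩ := Ideal.Quotient.mk_surjective q
    rw [Algebra.adjoin_range_eq_range_aeval]
    refine ⟨P, ?_⟩
    have : (aeval y : _ →ₐ[R] MvPolynomial (Fin n) R ⧸ J) = Ideal.Quotient.mkₐ R J :=
      MvPolynomial.algHom_ext fun i => by simp [y]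
    exact AlgHom.congr_fun this P
  let m : ((Fin n → Fin p) → R) →ₗ[R] (MvPolynomial (Fin n) R ⧸ J) :=
    Fintype.linearCombination R (mono (p := p) y)
  have hm : Function.Surjective m := by
    intro q
    have : q ∈ Submodule.span R (Set.range (mono (p := p) y)) :=
      adjoin_le_span_mono y hyp (by rw [hyall]; trivial)
    exact (Submodule.mem_span_range_iff_exists_fun R).1 this |>.imp fun c hc => by
      simpa [m, Fintype.linearCombination_apply] using hc
  have hφ : Function.Surjective φ := by
    intro t
    have : t ∈ (aeval (R := R) X').range := by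
      rw [← Algebra.adjoin_range_eq_range_aeval]
      show t ∈ S
      rw [hS]; trivial
    obtain ⟨P, hP⟩ := this
    exact ⟨Ideal.Quotient.mk J P, by rw [← hP]; rfl⟩
  have hrank : Module.finrank R A = Module.finrank R ((Fin n → Fin p) → R) := by
    rw [← Module.finrank_baseChange (R := K), hcard, Module.finrank_pi]
    simp
  let e : A ≃ₗ[R] ((Fin n → Fin p) → R) := LinearEquiv.ofFinrankEq _ _ hrank
  have hcomp : Function.Injective (φ.toLinearMap ∘ₗ m) := by
    have hs : Function.Surjective (e.toLinearMap ∘ₗ (φ.toLinearMap ∘ₗ m)) :=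
      e.surjective.comp (hφ.comp hm)
    have := OrzechProperty.injective_of_surjective_endomorphism _ hs
    exact Function.Injective.of_comp this
  have hinj : Function.Injective φ := by
    intro u v huv
    obtain ⟨u, rfl⟩ := hm u
    obtain ⟨v, rfl⟩ := hm v
    exact congrArg m (hcomp huv)
  exact ⟨n, ⟨(AlgEquiv.ofBijective φ ⟨hinj, hφ⟩).symm⟩⟩

end Groth.Agent.HeightOne
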